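import Groth.Agent.CechShRes.Basic
import Groth.Agent.KFlatLib.Scheme.AcyclicPush
import Groth.Agent.PicGlue.RpushAffine
import Groth.Agent.QCoh.DevissageIdeal
import Groth.Agent.QCoh.Qcqs

/-!
# The relative Cech complex computes the derived direct image
-/

set_option autoImplicit false
set_option backward.isDefEq.respectTransparency false
set_option backward.isDefEq.respectTransparency.types false
set_option linter.style.haveILetI false

universe u

open CategoryTheory CategoryTheory.Limits AlgebraicGeometry TopologicalSpace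

attribute [local instance] HasDerivedCategory.standard CategoryTheory.Abelian.hasFiniteBiproducts

namespace Groth.Agent.CechShRes

variable {X S : Scheme.{u}}

lemma isAffineHom_of_isAffine_of_affineDiag {W : Scheme.{u}} [IsAffine W] (g : W ⟶ S)
    [hS : IsAffineHom (pullback.diagonal (terminal.from S))] : IsAffineHom g := by
  haveI : MorphismProperty.HasOfPostcompProperty @IsAffineHom (MorphismProperty.diagonal @IsAffineHom) :=
    MorphismProperty.hasOfPostcompProperty_iff_le_diagonal.2 le_rfl
  refine MorphismProperty.of_postcomp (W := @IsAffineHom) (W' := MorphismProperty.diagonal @IsAffineHom)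
    g (terminal.from S) hS ?_
  rw [terminal.comp_from]
  exact isAffineHom_of_isAffine _

lemma preservesMono_restrict {W : Scheme.{u}} (j : W ⟶ X) [IsOpenImmersion j] :
    (Scheme.Modules.restrictFunctor j).PreservesMonomorphisms :=
  ⟨fun {M N} g _ => Preadditive.mono_of_cancel_zero _ fun {G} φ h => Scheme.Modules.hom_ext _ _ fun U => by
    ext s
    refine QCoh.app_injective g (j ''ᵁ U) ?_
    exact (congrArg (fun ψ : G ⟶ N.restrict j => ψ.app U s) h).trans (map_zero _).symm⟩

section Compose

variable {W : Scheme.{u}} (j : W ⟶ X) (f : X ⟶ S) [IsOpenImmersion j] [HasInjectiveResolutions W.Modules]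
  [HasInjectiveResolutions X.Modules]

/-- Direct images of modules acyclic for `j` and `j ≫ f` are acyclic for `f`. -/
lemma isRightAcyclic_push_push (i : ℕ) :
    ∀ G : W.Modules, TriCat.IsRightAcyclic (Scheme.Modules.pushforward j) G →
      TriCat.IsRightAcyclic (Scheme.Modules.pushforward (j ≫ f)) G →
      IsZero (((Scheme.Modules.pushforward f).rightDerived (i + 1)).obj ((Scheme.Modules.pushforward j).obj G)) := by
  haveI := SpObjSS.enoughInjectives_of_hasInjectiveResolutions (C := X.Modules)
  haveI := SpObjSS.enoughInjectives_of_hasInjectiveResolutions (C := W.Modules)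
  haveI := QCoh.preservesFiniteLimits_push f
  haveI := QCoh.preservesFiniteLimits_push j
  haveI := QCoh.preservesFiniteLimits_push (j ≫ f)
  induction i with
  | zero =>
    intro G hj hjf
    let T := ShortComplex.mk (Injective.ι G) (cokernel.π (Injective.ι G)) (cokernel.condition _)
    have hT : T.ShortExact := { exact := ShortComplex.exact_of_g_is_cokernel _ (cokernelIsCokernel _) }
    have hT' := TriCat.shortExact_map_of_subsingleton hT (hj 1 one_pos)
    have hT'' := TriCat.shortExact_map_of_subsingleton hT (hjf 1 one_pos)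
    haveI := preservesMono_restrict j
    haveI : Injective ((Scheme.Modules.pushforward j).obj (Injective.under G)) :=
      Injective.injective_of_adjoint (Scheme.Modules.restrictAdjunction j) _
    obtain ⟨δ, w₁, w₂, w₃, -, e₂, e₃⟩ :=
      TriCat.exists_rightDerived_ses (Scheme.Modules.pushforward f) hT' 0
    have he : Epi ((Scheme.Modules.pushforward f).map ((Scheme.Modules.pushforward j).map T.g)) :=
      ((MorphismProperty.epimorphisms _).arrow_mk_iso_iff
        (Arrow.isoOfNatIso (Scheme.Modules.pushforwardComp j f) (Arrow.mk T.g))).2 hT''.epi_g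
    haveI : Epi (((Scheme.Modules.pushforward f).rightDerived 0).map ((T.map (Scheme.Modules.pushforward j)).g)) :=
      ((MorphismProperty.epimorphisms _).arrow_mk_iso_iff
        (Arrow.isoOfNatIso (Scheme.Modules.pushforward f).rightDerivedZeroIsoSelf
          (Arrow.mk ((T.map (Scheme.Modules.pushforward j)).g)))).2 he
    refine e₃.isZero_X₂ ?_ ((TriCat.isRightAcyclic_of_injective
      (F := Scheme.Modules.pushforward f) ((Scheme.Modules.pushforward j).obj (Injective.under G)) 1
        one_pos).eq_of_tgt _ _)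
    exact (cancel_epi (((Scheme.Modules.pushforward f).rightDerived 0).map
      ((T.map (Scheme.Modules.pushforward j)).g))).1 (w₂.trans comp_zero.symm)
  | succ i ih =>
    intro G hj hjf
    let T := ShortComplex.mk (Injective.ι G) (cokernel.π (Injective.ι G)) (cokernel.condition _)
    have hT : T.ShortExact := { exact := ShortComplex.exact_of_g_is_cokernel _ (cokernelIsCokernel _) }
    have hT' := TriCat.shortExact_map_of_subsingleton hT (hj 1 one_pos)
    haveI := preservesMono_restrict j
    haveI : Injective ((Scheme.Modules.pushforward j).obj (Injective.under G)) :=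
      Injective.injective_of_adjoint (Scheme.Modules.restrictAdjunction j) _
    obtain ⟨δ, w₁, w₂, w₃, -, e₂, e₃⟩ :=
      TriCat.exists_rightDerived_ses (Scheme.Modules.pushforward f) hT' (i + 1)
    refine e₃.isZero_X₂ ((ih T.X₃ ?_ ?_).eq_of_src _ _) ((TriCat.isRightAcyclic_of_injective
      (F := Scheme.Modules.pushforward f) ((Scheme.Modules.pushforward j).obj (Injective.under G))
        (i + 1 + 1) (by omega)).eq_of_tgt _ _)
    · exact TriCat.acyclic₃ hT hj (TriCat.isRightAcyclic_of_injective (Injective.under G))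
    · exact TriCat.acyclic₃ hT hjf (TriCat.isRightAcyclic_of_injective (Injective.under G))

end Compose

/-- Finite products of acyclic objects are acyclic. -/
lemma isRightAcyclic_piObj {C D : Type*} [Category C] [Abelian C] [EnoughInjectives C] [Category D]
    [Abelian D] (F : C ⥤ D) [F.Additive] {J : Type*} [Finite J] (T : J → C) [HasProduct T]
    (h : ∀ a, TriCat.IsRightAcyclic F (T a)) : TriCat.IsRightAcyclic F (∏ᶜ T) := fun i hi => by
  classical
  haveI := Fintype.ofFinite J
  rw [IsZero.iff_id_eq_zero, ← CategoryTheory.Functor.map_id]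
  have e : 𝟙 (∏ᶜ T) = ∑ a, Pi.π T a ≫ Pi.lift (Function.update (fun b => (0 : T a ⟶ T b)) a (𝟙 _)) := by
    refine Pi.hom_ext _ _ fun b => ?_
    rw [Category.id_comp, Preadditive.sum_comp, Finset.sum_eq_single b]
    · simp
    · intro a _ hab
      simp [Function.update_of_ne hab.symm]
    · simp
  rw [e, Functor.map_sum]
  refine Finset.sum_eq_zero fun a _ => ?_
  rw [Functor.map_comp, ((h a i hi).eq_of_tgt ((F.rightDerived i).map (Pi.π T a)) 0), zero_comp]

/-- The cover's intersections are affine when the diagonal is affine. -/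
lemma isAffineOpen_piObj [hX : IsAffineHom (pullback.diagonal (terminal.from X))] :
    ∀ (n : ℕ) (V : Fin (n + 1) → X.Opens), (∀ a, IsAffineOpen (V a)) → IsAffineOpen (∏ᶜ V)
  | 0, V, h => by
    have : (∏ᶜ V) = V 0 := le_antisymm (Pi.π V 0).le
      (Pi.lift fun a => homOfLE (le_of_eq (by rw [Subsingleton.elim (α := Fin 1) a 0]))).le
    rw [this]; exact h 0
  | n + 1, V, h => by
    have : (∏ᶜ V) = V 0 ⊓ ∏ᶜ (fun a : Fin (n + 1) => V a.succ) := by
      refine le_antisymm (le_inf (Pi.π V 0).le (Pi.lift fun a : Fin (n + 1) => Pi.π V a.succ).le)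
        (Pi.lift fun a => homOfLE ?_).le
      induction a using Fin.cases with
      | zero => exact inf_le_left
      | succ a => exact inf_le_right.trans (Pi.π (fun a : Fin (n + 1) => V a.succ) a).le
    rw [this]
    haveI : IsAffine (V 0 : Scheme.{u}) := h 0
    haveI := isAffineHom_of_isAffine_of_affineDiag (V 0).ι
    have hW := isAffineOpen_piObj n (fun a : Fin (n + 1) => V a.succ) fun a => h _
    have := (hW.preimage (V 0).ι).image_of_isOpenImmersion (V 0).ι
    rwa [Scheme.Hom.image_preimage_eq_opensRange_inf, Scheme.Opens.opensRange_ι] at this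

section Main

variable (f : X ⟶ S) {ι : Type u} [Finite ι] (𝒰 : ι → X.Opens) (h𝒰 : ∀ i, IsAffineOpen (𝒰 i))
  (hcov : ⨆ i, 𝒰 i = ⊤) (F : X.Modules) (hF : Coh.IsQCoh F)
  [IsAffineHom (pullback.diagonal (terminal.from X))] [IsAffineHom (pullback.diagonal (terminal.from S))]

omit [IsAffineHom (pullback.diagonal (terminal.from X))] [Finite ι] in
lemma isQCoh_push_pushRestr (W : X.Opens) (hW : IsAffineOpen W) (G : X.Modules) (hG : Coh.IsQCoh G) :
    Coh.IsQCoh ((Scheme.Modules.pushforward f).obj ((CechOX.pushRestr W).obj G)) := by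
  haveI : IsAffine (W : Scheme.{u}) := hW
  haveI := isAffineHom_of_isAffine_of_affineDiag (W.ι ≫ f)
  exact (QCoh.isQCoh_iff_iso ((Scheme.Modules.pushforwardComp W.ι f).app (G.restrict W.ι))).2
    (QCoh.isQCoh_pushforward (W.ι ≫ f) (QCoh.isQCoh_restrict W.ι hG))

include h𝒰 hF in
lemma isQCoh_relCech_X (p : ℕ) : Coh.IsQCoh (((CechOX.relCech 𝒰 f).obj F).X p) := by
  haveI : Fintype ι := Fintype.ofFinite ι
  let T : (Fin (p + 1) → ι) → X.Modules := fun i => (CechOX.pushRestr (∏ᶜ fun a => 𝒰 (i a))).obj F
  show Coh.IsQCoh ((Scheme.Modules.pushforward f).obj (∏ᶜ T))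
  have h : Coh.IsQCoh (∏ᶜ fun i => (Scheme.Modules.pushforward f).obj (T i)) := by
    refine (QCoh.isQCoh_iff_iso (Limits.biproduct.isoProduct _)).1 (QCoh.isQCoh_biproduct _ fun i => ?_)
    have hW := isAffineOpen_piObj p (fun a => 𝒰 (i a)) fun a => h𝒰 _
    haveI : IsAffine ((∏ᶜ fun a => 𝒰 (i a) : X.Opens) : Scheme.{u}) := hW
    exact isQCoh_push_pushRestr f _ hW F hF
  exact (QCoh.isQCoh_iff_iso (PreservesProduct.iso (Scheme.Modules.pushforward f) T)).2 h

include h𝒰 hF in
lemma isRightAcyclic_cech_X [HasInjectiveResolutions X.Modules] (p : ℕ) :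
    haveI := SpObjSS.enoughInjectives_of_hasInjectiveResolutions (C := X.Modules)
    TriCat.IsRightAcyclic (Scheme.Modules.pushforward f) (((CechOX.cechSh 𝒰).obj F).X p) := by
  haveI := SpObjSS.enoughInjectives_of_hasInjectiveResolutions (C := X.Modules)
  show TriCat.IsRightAcyclic (Scheme.Modules.pushforward f) (∏ᶜ fun i : Fin (p + 1) → ι =>
    (CechOX.pushRestr (∏ᶜ fun a => 𝒰 (i a))).obj F)
  refine isRightAcyclic_piObj _ _ fun i q hq => ?_
  obtain ⟨q, rfl⟩ := Nat.exists_eq_succ_of_ne_zero hq.ne'
  let W : X.Opens := ∏ᶜ fun a => 𝒰 (i a)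
  haveI : IsAffine (W : Scheme.{u}) := isAffineOpen_piObj p (fun a => 𝒰 (i a)) fun a => h𝒰 _
  haveI := KFlatLib.hasInjectiveResolutions_modules (X := (W : Scheme.{u}))
  haveI := isAffineHom_of_isAffine_of_affineDiag W.ι
  haveI := isAffineHom_of_isAffine_of_affineDiag (W.ι ≫ f)
  exact isRightAcyclic_push_push W.ι f q _
    (fun r hr => PicGlue.isZero_Rpush_of_isAffineHom W.ι _ (QCoh.isQCoh_restrict _ hF) r hr)
    (fun r hr => PicGlue.isZero_Rpush_of_isAffineHom (W.ι ≫ f) _ (QCoh.isQCoh_restrict _ hF) r hr)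

/-- The coaugmentation, as a map of complexes. -/
noncomputable def augCx : (CochainComplex.single₀ X.Modules).obj F ⟶ (CechOX.cechSh 𝒰).obj F :=
  (CochainComplex.fromSingle₀Equiv _ _).symm ⟨CechOX.cechShAug 𝒰 F, aug_d F 𝒰⟩

omit [Finite ι] [IsAffineHom (pullback.diagonal (terminal.from X))]
  [IsAffineHom (pullback.diagonal (terminal.from S))] in
include hcov in
lemma quasiIso_augCx : QuasiIso (augCx 𝒰 F) where
  quasiIsoAt n := by
    cases n with
    | zero =>
      rw [CochainComplex.quasiIsoAt₀_iff, ShortComplex.quasiIso_iff_of_zeros]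
      · refine ⟨?_, ?_⟩
        · refine ShortComplex.exact_of_iso ?_ (exact_aug (F := F) (𝒰 := 𝒰) hcov)
          exact ShortComplex.isoMk (Iso.refl _) (Iso.refl _) (Iso.refl _) (by simp [augCx]) (by simp)
        · simpa [augCx] using mono_aug (F := F) hcov
      all_goals simp
    | succ n =>
      rw [quasiIsoAt_iff_exactAt _ _ (CochainComplex.exactAt_succ_single_obj _ _)]
      exact exactAt hcov n

lemma mapExtend_aux {C D : Type*} [Category C] [Category D] (G : C ⥤ D) {X X' Y Y' : C} {Z Z' : D}
    (a : X ≅ X') (b : Y ≅ Y') (d : X' ⟶ Y') (eX : Z ≅ G.obj X')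
    (eY : Z' ≅ G.obj Y') : (G.mapIso a ≪≫ eX.symm).hom ≫ (eX.hom ≫ G.map d ≫ eY.inv) =
      G.map (a.hom ≫ d ≫ b.inv) ≫ (G.mapIso b ≪≫ eY.symm).hom := by
  simp only [Iso.trans_hom, Functor.mapIso_hom, Iso.symm_hom, Category.assoc, Iso.inv_hom_id_assoc]
  rw [← G.map_comp_assoc, ← G.map_comp_assoc, Category.assoc, Category.assoc, Iso.inv_hom_id, Category.comp_id]

open Classical in
/-- Applying an additive functor commutes with extension by zero. -/
noncomputable def mapExtendIso {C D : Type*} [Category C] [Abelian C] [Category D] [Abelian D]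
    (G : C ⥤ D) [G.Additive] (K : CochainComplex C ℕ) :
    (G.mapHomologicalComplex (ComplexShape.up ℤ)).obj (K.extend ComplexShape.embeddingUpNat) ≅
      ((G.mapHomologicalComplex (ComplexShape.up ℕ)).obj K).extend ComplexShape.embeddingUpNat :=
  HomologicalComplex.Hom.isoOfComponents
    (fun i' => if h : ∃ i, ComplexShape.embeddingUpNat.f i = i' then
        G.mapIso (K.extendXIso _ h.choose_spec) ≪≫
          (HomologicalComplex.extendXIso ((G.mapHomologicalComplex (ComplexShape.up ℕ)).obj K) _ h.choose_spec).symm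
      else
        (G.map_isZero (K.isZero_extend_X ComplexShape.embeddingUpNat i' (fun i hi => h ⟨i, hi⟩))).iso
          (HomologicalComplex.isZero_extend_X _ ComplexShape.embeddingUpNat i' (fun i hi => h ⟨i, hi⟩)))
    (fun i' j' _ => by
      by_cases hi : ∃ i, ComplexShape.embeddingUpNat.f i = i'
      swap
      · exact (G.map_isZero (K.isZero_extend_X ComplexShape.embeddingUpNat i' (fun i h => hi ⟨i, h⟩))).eq_of_src _ _
      by_cases hj : ∃ j, ComplexShape.embeddingUpNat.f j = j'
      swap
      · exact (HomologicalComplex.isZero_extend_X _ ComplexShape.embeddingUpNat j' (fun j h => hj ⟨j, h⟩)).eq_of_tgt _ _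
      rw [dif_pos hi, dif_pos hj]
      simp only [Functor.mapHomologicalComplex_obj_d]
      rw [HomologicalComplex.extend_d_eq _ _ hi.choose_spec hj.choose_spec,
        HomologicalComplex.extend_d_eq _ _ hi.choose_spec hj.choose_spec]
      exact mapExtend_aux G _ _ _ _ _)

include h𝒰 hF hcov in
theorem nonempty_rpush_iso [DCoh.HasRpush f] :
    Nonempty (DCoh.toD S (CechOX.relCechZ 𝒰 f F) ≅ (DCoh.Rpush f).obj (DCoh.inD X F)) := by
  haveI := KFlatLib.hasInjectiveResolutions_modules (X := X)
  haveI := quasiIso_augCx 𝒰 hcov F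
  let C := CechOX.cechShZ 𝒰 F
  haveI := KFlatLib.isIso_rpushUnit_of_isStrictlyGE f C 0 fun n => by
    haveI := SpObjSS.enoughInjectives_of_hasInjectiveResolutions (C := X.Modules)
    by_cases hn : ∃ p, ComplexShape.embeddingUpNat.f p = n
    · obtain ⟨p, hp⟩ := hn
      exact fun i hi => (isRightAcyclic_cech_X f 𝒰 h𝒰 F hF p i hi).of_iso
        (((Scheme.Modules.pushforward f).rightDerived i).mapIso (HomologicalComplex.extendXIso _ _ hp))
    · exact fun i hi => Functor.map_isZero _
        (HomologicalComplex.isZero_extend_X _ _ n fun p hp => hn ⟨p, hp⟩)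
  let e₁ : DerivedCategory.Q.obj C ≅ DCoh.inD X F :=
    (asIso (DerivedCategory.Q.map (HomologicalComplex.extendMap (augCx 𝒰 F) ComplexShape.embeddingUpNat))).symm ≪≫
      DerivedCategory.Q.mapIso (HomologicalComplex.extendSingleIso ComplexShape.embeddingUpNat F 0 0 rfl) ≪≫
      ((DerivedCategory.singleFunctorIsoCompQ X.Modules 0).app F).symm
  exact ⟨DerivedCategory.Q.mapIso (mapExtendIso (Scheme.Modules.pushforward f) ((CechOX.cechSh 𝒰).obj F)).symm ≪≫
    asIso ((KFlatLib.rpushUnit f).app C) ≪≫ (DCoh.Rpush f).mapIso e₁⟩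

end Main

end Groth.Agent.CechShRes
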