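import Groth.Prelude.Def_CechOX
import Groth.Agent.RelTildeX.SheafCrit

/-!
# The Cech complex of sheaves of a covering resolves the module

On an open inside a member of the covering the complex of sections contracts.
-/

set_option autoImplicit false
set_option backward.isDefEq.respectTransparency false
set_option backward.isDefEq.respectTransparency.types false

universe u

open CategoryTheory CategoryTheory.Limits AlgebraicGeometry Opposite TopologicalSpace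

namespace Groth.Agent.CechShRes

variable {X : Scheme.{u}}

/-- Sections over `V`, as a functor. -/
noncomputable abbrev secF (V : X.Opens) : X.Modules ⥤ AddCommGrpCat.{u} :=
  Scheme.Modules.toPresheaf X ⋙ (evaluation _ AddCommGrpCat.{u}).obj (op V)

instance preservesLimitsOfShape_secF {J : Type u} (V : X.Opens) :
    PreservesLimitsOfShape (Discrete J) (secF V) :=
  have : PreservesLimitsOfShape (Discrete J) ((evaluation (X.Opens)ᵒᵖ AddCommGrpCat.{u}).obj (op V)) := inferInstance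
  comp_preservesLimitsOfShape _ _

variable {J : Type u} (M : J → X.Modules) (V : X.Opens)

lemma pi_ext {s t : Γ(∏ᶜ M, V)} (h : ∀ i, (Pi.π M i).app V s = (Pi.π M i).app V t) : s = t :=
  Concrete.isLimit_ext _ (isLimitOfPreserves (secF V) (productIsProduct M)) s t fun ⟨i⟩ => h i

lemma exists_pi (g : ∀ i, Γ(M i, V)) : ∃ s : Γ(∏ᶜ M, V), ∀ i, (Pi.π M i).app V s = g i := by
  let e := PreservesProduct.iso (secF V) M
  refine ⟨e.inv.hom ((Concrete.productEquiv (fun i => (secF V).obj (M i))).symm g), fun i => ?_⟩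
  refine (ConcreteCategory.congr_hom (show e.inv ≫ (secF V).map (Pi.π M i) = Pi.π _ i from (Iso.inv_comp_eq e).2 (piComparison_comp_π (secF V) M i).symm)
    ((Concrete.productEquiv (fun i => (secF V).obj (M i))).symm g)).trans ?_
  exact Concrete.productEquiv_symm_apply_π _ g i

variable (F : X.Modules)

/-- Restriction of sections. -/
noncomputable def res {A B : X.Opens} (h : B ≤ A) : Γ(F, A) →+ Γ(F, B) := (F.presheaf.map (homOfLE h).op).hom

lemma res_res {A B C : X.Opens} (h : B ≤ A) (h' : C ≤ B) (s : Γ(F, A)) :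
    res F h' (res F h s) = res F (h'.trans h) s :=
  (ConcreteCategory.congr_hom (F.presheaf.map_comp (homOfLE h).op (homOfLE h').op) s).symm

lemma res_self {A : X.Opens} (s : Γ(F, A)) : res F le_rfl s = s :=
  ConcreteCategory.congr_hom (F.presheaf.map_id (op A)) s

variable {ι : Type u} (𝒰 : ι → X.Opens)

/-- The open carrying the component at a tuple. -/
noncomputable abbrev carrier {n : ℕ} (i : Fin n → ι) (V : X.Opens) : X.Opens :=
  (CechOX.interFun (∏ᶜ fun k => 𝒰 (i k))).obj V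

lemma carrier_eq {n : ℕ} (i : Fin n → ι) : carrier 𝒰 i V = (∏ᶜ fun k => 𝒰 (i k)) ⊓ V := by
  show (∏ᶜ fun k => 𝒰 (i k)).ι ''ᵁ ((∏ᶜ fun k => 𝒰 (i k)).ι ⁻¹ᵁ V) = _
  rw [Scheme.Hom.image_preimage_eq_opensRange_inf, Scheme.Opens.opensRange_ι]

lemma carrier_le {n m : ℕ} (i : Fin n → ι) (i' : Fin m → ι) {V W : X.Opens} (hVW : W ≤ V)
    (h : ∀ a, ∃ b, i' b = i a) : carrier 𝒰 i' W ≤ carrier 𝒰 i V := by
  rw [carrier_eq, carrier_eq]
  refine inf_le_inf (Pi.lift fun a => homOfLE ?_).le hVW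
  obtain ⟨b, hb⟩ := h a
  exact hb ▸ (Pi.π (fun k => 𝒰 (i' k)) b).le

lemma carrier_le_self {n : ℕ} (i : Fin n → ι) : carrier 𝒰 i V ≤ V := by
  rw [carrier_eq]; exact inf_le_right

lemma carrier_le_cons {n : ℕ} (i : Fin n → ι) {k : ι} {V : X.Opens} (hV : V ≤ 𝒰 k) :
    carrier 𝒰 i V ≤ carrier 𝒰 (Fin.cons k i) V := by
  rw [carrier_eq, carrier_eq]
  refine le_inf (Pi.lift fun a => homOfLE ?_).le inf_le_right
  induction a using Fin.cases with
  | zero => simpa using inf_le_right.trans hV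
  | succ a => simpa using inf_le_left.trans (Pi.π (fun k => 𝒰 (i k)) a).le

/-- The components of a Cech cochain of sheaves over `V`. -/
noncomputable def comp (p : ℕ) (i : Fin (p + 1) → ι) (V : X.Opens) :
    Γ(((CechOX.cechSh 𝒰).obj F).X p, V) →+ Γ(F, carrier 𝒰 i V) :=
  ((Pi.π (fun j : Fin (p + 1) → ι => (CechOX.pushRestr (∏ᶜ fun k => 𝒰 (j k))).obj F) i).app V).hom

lemma comp_ext {p : ℕ} {V : X.Opens} {s t : Γ(((CechOX.cechSh 𝒰).obj F).X p, V)}
    (h : ∀ i, comp F 𝒰 p i V s = comp F 𝒰 p i V t) : s = t :=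
  pi_ext (fun j : Fin (p + 1) → ι => (CechOX.pushRestr (∏ᶜ fun k => 𝒰 (j k))).obj F) V h

lemma exists_comp {p : ℕ} {V : X.Opens} (g : ∀ i : Fin (p + 1) → ι, Γ(F, carrier 𝒰 i V)) :
    ∃ s, ∀ i, comp F 𝒰 p i V s = g i :=
  exists_pi (fun j : Fin (p + 1) → ι => (CechOX.pushRestr (∏ᶜ fun k => 𝒰 (j k))).obj F) V g

lemma comp_res {p : ℕ} (i : Fin (p + 1) → ι) {V W : X.Opens} (h : W ≤ V)
    (s : Γ(((CechOX.cechSh 𝒰).obj F).X p, V)) :
    comp F 𝒰 p i W ((((CechOX.cechSh 𝒰).obj F).X p).presheaf.map (homOfLE h).op s) =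
      res F (carrier_le 𝒰 i i h fun a => ⟨a, rfl⟩) (comp F 𝒰 p i V s) :=
  ConcreteCategory.congr_hom ((Pi.π (fun j : Fin (p + 1) → ι =>
    (CechOX.pushRestr (∏ᶜ fun k => 𝒰 (j k))).obj F) i).mapPresheaf.naturality (homOfLE h).op) s

lemma comp_d {p : ℕ} (i : Fin (p + 2) → ι) (V : X.Opens) (s : Γ(((CechOX.cechSh 𝒰).obj F).X p, V)) :
    comp F 𝒰 (p + 1) i V ((((CechOX.cechSh 𝒰).obj F).d p (p + 1)).app V s) =
      ∑ j : Fin (p + 2), (-1 : ℤ) ^ (j : ℕ) •
        res F (carrier_le 𝒰 (i ∘ j.succAbove) i le_rfl fun a => ⟨_, rfl⟩)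
          (comp F 𝒰 p (i ∘ j.succAbove) V s) := by
  let P := CechOX.pushRestrFam.flip.obj F
  have key : ((CechOX.cechSh 𝒰).obj F).d p (p + 1) ≫ Pi.π (fun j : Fin (p + 2) → ι => P.obj (op (∏ᶜ fun k => 𝒰 (j k)))) i =
      ∑ j : Fin (p + 2), (-1 : ℤ) ^ (j : ℕ) •
        (Pi.π (fun j : Fin (p + 1) → ι => P.obj (op (∏ᶜ fun k => 𝒰 (j k)))) (i ∘ j.succAbove) ≫
          P.map (Pi.lift fun k => Pi.π (fun k => 𝒰 (i k)) (j.succAbove k)).op) := by
    have e : ((cechComplexFunctor (A := X.Modules) 𝒰).obj P).d p (p + 1) =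
        AlgebraicTopology.AlternatingCofaceMapComplex.objD
          ((FormalCoproduct.cosimplicialObjectFunctor (FormalCoproduct.mk _ 𝒰).cech).obj P) p := by
      simp [cechComplexFunctor, FormalCoproduct.cochainComplexFunctor,
        AlgebraicTopology.alternatingCofaceMapComplex, AlgebraicTopology.AlternatingCofaceMapComplex.obj]
    show ((cechComplexFunctor (A := X.Modules) 𝒰).obj P).d p (p + 1) ≫ _ = _
    rw [e, AlgebraicTopology.AlternatingCofaceMapComplex.objD]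
    refine (Preadditive.sum_comp _ _ _).trans (Finset.sum_congr rfl fun j _ => ?_)
    refine (Preadditive.zsmul_comp _ _ _).trans ?_
    congr 1
    exact Pi.lift_π (fun i : Fin (p + 2) → ι =>
      (Pi.π (fun j : Fin (p + 1) → ι => P.obj (op (∏ᶜ fun k => 𝒰 (j k)))) (i ∘ j.succAbove)) ≫
        P.map (Pi.lift fun k => Pi.π (fun k => 𝒰 (i k)) (j.succAbove k)).op) i
  refine (congrArg (fun g : ((CechOX.cechSh 𝒰).obj F).X p ⟶ P.obj (op (∏ᶜ fun k => 𝒰 (i k))) => g.app V s) key).trans ?_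
  let ev : (((CechOX.cechSh 𝒰).obj F).X p ⟶ P.obj (op (∏ᶜ fun k => 𝒰 (i k)))) →+
      Γ(F, carrier 𝒰 i V) := AddMonoidHom.mk' (fun g => g.app V s) fun _ _ => rfl
  refine (map_sum ev _ _).trans (Finset.sum_congr rfl fun j _ => ?_)
  refine (map_zsmul ev _ _).trans ?_
  rfl

lemma comp_aug (i : Fin 1 → ι) (V : X.Opens) (s : Γ(F, V)) :
    comp F 𝒰 0 i V ((CechOX.cechShAug 𝒰 F).app V s) = res F (carrier_le_self V 𝒰 i) s := by
  refine (ConcreteCategory.congr_hom (congrArg (secF V).map (Pi.lift_π (fun i : Fin 1 → ι =>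
    (Scheme.Modules.restrictAdjunction (∏ᶜ (𝒰 ∘ i)).ι).unit.app F) i)) s).trans ?_
  rfl

lemma aug_d : CechOX.cechShAug 𝒰 F ≫ ((CechOX.cechSh 𝒰).obj F).d 0 1 = 0 := by
  refine Scheme.Modules.hom_ext _ _ fun V => ?_
  ext s
  refine comp_ext F 𝒰 fun i => ?_
  refine (comp_d F 𝒰 i V ((CechOX.cechShAug 𝒰 F).app V s)).trans ?_
  rw [Fin.sum_univ_two, comp_aug, comp_aug, res_res, res_res]
  simp only [Fin.val_zero, Fin.val_one, pow_zero, pow_one, one_smul, neg_smul, add_neg_cancel]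
  exact (map_zero _).symm

variable {F 𝒰}

/-- The cochain contracting a section over an open inside `𝒰 k`. -/
lemma comp_eq_sum {p : ℕ} {k : ι} {V : X.Opens} (hV : V ≤ 𝒰 k) (s : Γ(((CechOX.cechSh 𝒰).obj F).X p, V))
    (hs : (((CechOX.cechSh 𝒰).obj F).d p (p + 1)).app V s = 0) (i : Fin (p + 1) → ι) :
    comp F 𝒰 p i V s = ∑ j : Fin (p + 1), (-1 : ℤ) ^ (j : ℕ) •
      res F ((carrier_le_cons 𝒰 i hV).trans (carrier_le 𝒰 (Fin.cons k i ∘ j.succ.succAbove)
        (Fin.cons k i) le_rfl fun a => ⟨_, rfl⟩))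
        (comp F 𝒰 p (Fin.cons k i ∘ j.succ.succAbove) V s) := by
  have h := congrArg (fun z => res F (carrier_le_cons 𝒰 i hV) z) (comp_d F 𝒰 (Fin.cons k i) V s)
  simp only [hs, map_zero, map_sum, map_zsmul, res_res] at h
  rw [Fin.sum_univ_succ] at h
  have h0 : ∀ (i' : Fin (p + 1) → ι) (e : i' = i) (hle : carrier 𝒰 i V ≤ carrier 𝒰 i' V),
      res F hle (comp F 𝒰 p i' V s) = comp F 𝒰 p i V s := by
    rintro i' rfl hle; exact res_self F _
  rw [h0 _ (funext fun a => by simp) _] at h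
  simp only [Fin.val_zero, pow_zero, one_smul, Fin.val_succ, pow_succ, mul_neg, mul_one, neg_smul,
    Finset.sum_neg_distrib, ← sub_eq_add_neg] at h
  exact sub_eq_zero.1 h.symm

lemma exists_preimage {p : ℕ} {k : ι} {V : X.Opens} (hV : V ≤ 𝒰 k)
    (s : Γ(((CechOX.cechSh 𝒰).obj F).X (p + 1), V))
    (hs : (((CechOX.cechSh 𝒰).obj F).d (p + 1) (p + 1 + 1)).app V s = 0) :
    ∃ t, (((CechOX.cechSh 𝒰).obj F).d p (p + 1)).app V t = s := by
  obtain ⟨t, ht⟩ := exists_comp F 𝒰 (p := p) (V := V) fun i =>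
    res F (carrier_le_cons 𝒰 i hV) (comp F 𝒰 (p + 1) (Fin.cons k i) V s)
  refine ⟨t, comp_ext F 𝒰 fun i => ?_⟩
  rw [comp_d, comp_eq_sum hV s hs i]
  refine Finset.sum_congr rfl fun j _ => congrArg _ ?_
  rw [ht, res_res]
  have h0 : ∀ (a b : Fin (p + 1 + 1) → ι) (e : a = b) (ha : carrier 𝒰 i V ≤ carrier 𝒰 a V)
      (hb : carrier 𝒰 i V ≤ carrier 𝒰 b V),
      res F ha (comp F 𝒰 (p + 1) a V s) = res F hb (comp F 𝒰 (p + 1) b V s) := by
    rintro a b rfl ha hb; rfl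
  refine h0 _ _ (funext fun a => ?_) _ _
  induction a using Fin.cases <;> simp

lemma exists_preimage_zero {k : ι} {V : X.Opens} (hV : V ≤ 𝒰 k)
    (s : Γ(((CechOX.cechSh 𝒰).obj F).X 0, V)) (hs : (((CechOX.cechSh 𝒰).obj F).d 0 1).app V s = 0) :
    ∃ t, (CechOX.cechShAug 𝒰 F).app V t = s := by
  have hle : V ≤ carrier 𝒰 (fun _ : Fin 1 => k) V := by
    rw [carrier_eq]; exact le_inf (Pi.lift fun _ => homOfLE hV).le le_rfl
  refine ⟨res F hle (comp F 𝒰 0 (fun _ => k) V s), comp_ext F 𝒰 fun i => ?_⟩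
  rw [comp_aug, res_res, comp_eq_sum (p := 0) hV s hs i, Fin.sum_univ_one]
  simp only [Fin.val_zero, pow_zero, one_smul]
  have h0 : ∀ (a b : Fin 1 → ι) (e : a = b) (ha : carrier 𝒰 i V ≤ carrier 𝒰 a V)
      (hb : carrier 𝒰 i V ≤ carrier 𝒰 b V),
      res F ha (comp F 𝒰 0 a V s) = res F hb (comp F 𝒰 0 b V s) := by
    rintro a b rfl ha hb; rfl
  refine h0 _ _ (funext fun a => ?_) _ _
  rw [Subsingleton.elim (α := Fin 1) a 0]; simp

variable (h𝒰 : ⨆ i, 𝒰 i = ⊤)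

include h𝒰 in
lemma exists_member (x : X) : ∃ k, x ∈ 𝒰 k :=
  Opens.mem_iSup.1 (h𝒰.symm ▸ Opens.mem_top x)

include h𝒰 in
theorem mono_aug : Mono (CechOX.cechShAug 𝒰 F) := by
  refine Preadditive.mono_of_cancel_zero _ fun {G} g hg => Scheme.Modules.hom_ext _ _ fun U => ?_
  ext s
  refine QCoh.eq_zero_of_locally U _ fun x hx => ?_
  obtain ⟨k, hk⟩ := exists_member h𝒰 x
  have hle : U ⊓ 𝒰 k ≤ carrier 𝒰 (fun _ : Fin 1 => k) U := by
    rw [carrier_eq]; exact le_inf (inf_le_right.trans (Pi.lift fun _ => 𝟙 _).le) inf_le_left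
  refine ⟨U ⊓ 𝒰 k, homOfLE inf_le_left, ⟨hx, hk⟩, ?_⟩
  have h1 : (CechOX.cechShAug 𝒰 F).app U (g.app U s) = 0 :=
    ConcreteCategory.congr_hom (congrArg (secF U).map hg) s
  have h2 := congrArg (fun z => res F hle (comp F 𝒰 0 (fun _ => k) U z)) h1
  simp only [comp_aug, res_res, map_zero] at h2
  exact h2

include h𝒰 in
theorem exact_aug : (ShortComplex.mk _ _ (aug_d F 𝒰)).Exact := by
  refine RelTildeX.exact_of_locally _ fun U s hs x hx => ?_
  obtain ⟨k, hk⟩ := exists_member h𝒰 x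
  refine ⟨U ⊓ 𝒰 k, inf_le_left, ⟨hx, hk⟩, exists_preimage_zero inf_le_right _ ?_⟩
  refine (QCoh.map_app_comm _ _ _).trans ?_
  exact (congrArg _ hs).trans (map_zero _)

include h𝒰 in
theorem exactAt (p : ℕ) : ((CechOX.cechSh 𝒰).obj F).ExactAt (p + 1) := by
  rw [HomologicalComplex.exactAt_iff' _ p (p + 1) (p + 1 + 1) (by simp) (by simp)]
  refine RelTildeX.exact_of_locally _ fun U s hs x hx => ?_
  obtain ⟨k, hk⟩ := exists_member h𝒰 x
  refine ⟨U ⊓ 𝒰 k, inf_le_left, ⟨hx, hk⟩, exists_preimage inf_le_right _ ?_⟩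
  refine (QCoh.map_app_comm _ _ _).trans ?_
  exact (congrArg _ hs).trans (map_zero _)

end Groth.Agent.CechShRes
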